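import Groth.Agent.Lib.Hensel.IdemMatrix
import Mathlib

/-!
# Invariants of a tame action on a henselian local ring, and idempotents in the algebra of a matrix
-/

set_option autoImplicit false
universe u v

open IsLocalRing Polynomial

noncomputable section

namespace GrothLib.InvSect4

variable {A : Type u} [CommRing A] [HenselianLocalRing A] {G : Type v} [Group G] [MulSemiringAction G A]

theorem isUnit_fixed {x : FixedPoints.subring A G} (h : IsUnit (x : A)) : IsUnit x := by
  obtain ⟨y, hy⟩ := h.exists_right_inv
  refine IsUnit.of_mul_eq_one ⟨y, fun g => h.mul_left_cancel ?_⟩ (Subtype.ext hy)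
  have h2 := congrArg (g • ·) hy
  simp only [smul_mul', smul_one, x.2 g] at h2
  rw [h2, hy]

instance : IsLocalHom (FixedPoints.subring A G).subtype := ⟨fun _ => isUnit_fixed⟩

instance isLocalRing_fixed : IsLocalRing (FixedPoints.subring A G) :=
  .of_isUnit_or_isUnit_one_sub_self fun a => (isUnit_or_isUnit_one_sub_self (a : A)).imp isUnit_fixed
    (fun h => isUnit_fixed h)

theorem mem_maximalIdeal_fixed {x : FixedPoints.subring A G} :
    x ∈ maximalIdeal (FixedPoints.subring A G) ↔ (x : A) ∈ maximalIdeal A := by
  simp only [mem_maximalIdeal, mem_nonunits_iff]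
  exact not_congr ⟨fun h => h.map (FixedPoints.subring A G).subtype, isUnit_fixed⟩

theorem henselianLocalRing_fixed (htriv : ∀ (g : G) (a : A), g • a - a ∈ maximalIdeal A) :
    HenselianLocalRing (FixedPoints.subring A G) := by
  refine { is_henselian := fun f hf a₀ h₀ h₁ => ?_ }
  let ι := (FixedPoints.subring A G).subtype
  have hev : ∀ (p : (FixedPoints.subring A G)[X]) (x : FixedPoints.subring A G),
      (p.map ι).eval (x : A) = ((p.eval x : FixedPoints.subring A G) : A) := fun p x => Polynomial.eval_map_apply ι x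
  obtain ⟨a, ha, ha'⟩ := HenselianLocalRing.is_henselian (f.map ι) (hf.map ι) (a₀ : A)
    (by rw [hev]; exact mem_maximalIdeal_fixed.1 h₀)
    (by rw [Polynomial.derivative_map, hev]; exact h₁.map ι)
  have hfix : ∀ g : G, g • a = a := fun g => by
    have hroot : (f.map ι).eval (g • a) = 0 := by
      have h2 := congrArg (MulSemiringAction.toRingHom G A g) ha
      rw [map_zero, ← Polynomial.eval_map_apply, Polynomial.map_map] at h2
      have : (MulSemiringAction.toRingHom G A g).comp ι = ι := RingHom.ext fun x => x.2 g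
      rwa [this] at h2
    obtain ⟨k, h3⟩ := Polynomial.binomExpansion (f.map ι) a (g • a - a)
    rw [add_sub_cancel, hroot, show (f.map ι).eval a = 0 from ha, zero_add] at h3
    have hu : IsUnit ((f.map ι).derivative.eval a + k * (g • a - a)) := by
      have hd : IsUnit ((f.map ι).derivative.eval a) := by
        have h4 : IsUnit ((f.map ι).derivative.eval (a₀ : A)) := by
          rw [Polynomial.derivative_map, hev]; exact h₁.map ι
        refine isUnit_of_map_unit (residue A) _ ?_
        rw [← Polynomial.eval_map_apply, show residue A a = residue A (a₀ : A) by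
          rw [← sub_eq_zero, ← map_sub, residue_eq_zero_iff]; exact ha', Polynomial.eval_map_apply]
        exact h4.map _
      refine isUnit_of_map_unit (residue A) _ ?_
      rw [map_add, map_mul, (residue_eq_zero_iff _).2 (htriv g a), mul_zero, add_zero]
      exact hd.map _
    refine sub_eq_zero.1 (hu.mul_right_eq_zero.1 ?_)
    linear_combination -h3
  refine ⟨⟨a, hfix⟩, ?_, mem_maximalIdeal_fixed.2 ha'⟩
  apply Subtype.ext
  exact (hev f ⟨a, hfix⟩).symm.trans ha

theorem residue_fixed_surjective [Fintype G] (htriv : ∀ (g : G) (a : A), g • a - a ∈ maximalIdeal A)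
    (hG : IsUnit ((Fintype.card G : ℕ) : ResidueField A)) (c : ResidueField A) :
    ∃ x : FixedPoints.subring A G, residue A (x : A) = c := by
  obtain ⟨a, rfl⟩ := residue_surjective c
  have hn : IsUnit ((Fintype.card G : ℕ) : A) := isUnit_of_map_unit (residue A) _ (by simpa using hG)
  obtain ⟨ν, hν⟩ := hn.exists_left_inv
  have hνf : ∀ g : G, g • ν = ν := fun g => by
    refine hn.mul_right_cancel ?_
    have := congrArg (g • ·) hν
    simp only [smul_mul', smul_one] at this
    rw [show g • ((Fintype.card G : ℕ) : A) = (Fintype.card G : ℕ) from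
      map_natCast (MulSemiringAction.toRingHom G A g) _] at this
    rw [this, hν]
  refine ⟨⟨ν * ∑ g : G, g • a, fun g => ?_⟩, ?_⟩
  · rw [smul_mul', hνf, Finset.smul_sum]
    congr 1
    simp only [smul_smul]
    exact Fintype.sum_equiv (Equiv.mulLeft g) _ _ fun _ => rfl
  · show residue A (ν * ∑ g : G, g • a) = _
    rw [map_mul, map_sum]
    have : ∀ g : G, residue A (g • a) = residue A a := fun g => by
      rw [← sub_eq_zero, ← map_sub, residue_eq_zero_iff]; exact htriv g a
    simp only [this, Finset.sum_const, Finset.card_univ, nsmul_eq_mul]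
    rw [← mul_assoc, ← map_natCast (residue A), ← map_mul, hν, map_one, one_mul]

/-- Idempotents lift inside the algebra generated by a matrix. -/
theorem exists_idempotent_aeval {R : Type u} [CommRing R] [Nontrivial R] (I : Ideal R) [HenselianRing R I]
    {n : Type*} [Fintype n] [DecidableEq n] (X₀ : Matrix n n R)
    (hM : IsIdempotentElem (X₀.map (Ideal.Quotient.mk I))) :
    ∃ p : R[X], IsIdempotentElem (aeval X₀ p) ∧
      (aeval X₀ p).map (Ideal.Quotient.mk I) = X₀.map (Ideal.Quotient.mk I) := by
  let K := RingHom.ker (aeval X₀ : R[X] →ₐ[R] Matrix n n R).toRingHom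
  let B := R[X] ⧸ K
  let h : B →+* Matrix n n R :=
    Ideal.Quotient.lift K (aeval X₀ : R[X] →ₐ[R] Matrix n n R).toRingHom fun _ ha ↦ ha
  have hcp : X₀.charpoly ∈ K := Matrix.aeval_self_charpoly X₀
  have hfin : Module.Finite R B := by
    have := (Matrix.charpoly_monic X₀).finite_adjoinRoot
    have : Module.Finite R (R[X] ⧸ Ideal.span {X₀.charpoly}) := this
    exact Module.Finite.of_surjective
      (Ideal.Quotient.factorₐ R ((Ideal.span_singleton_le_iff_mem K).mpr hcp)).toLinearMap
      (Ideal.Quotient.factor_surjective ((Ideal.span_singleton_le_iff_mem K).mpr hcp))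
  let f : B →+* Matrix n n (R ⧸ I) := (Ideal.Quotient.mk I).mapMatrix.comp h
  let J := RingHom.ker f
  set IB := I.map (algebraMap R B)
  have hJ : J ≤ IB.radical := by
    intro x hx
    obtain ⟨p, rfl⟩ := Ideal.Quotient.mk_surjective x
    set Y := aeval X₀ p
    have hY : Y.map (Ideal.Quotient.mk I) = 0 := hx
    have hchar : Y.charpoly.map (Ideal.Quotient.mk I) = X ^ Fintype.card n := by
      rw [← Matrix.charpoly_map, hY, Matrix.charpoly_zero]
    have hz : aeval (Ideal.Quotient.mkₐ R K p) Y.charpoly = 0 := by
      rw [aeval_algHom_apply, Ideal.Quotient.mkₐ_eq_mk, Ideal.Quotient.eq_zero_iff_mem]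
      show aeval X₀ (aeval p Y.charpoly) = 0
      rw [← aeval_algHom_apply]
      exact Matrix.aeval_self_charpoly Y
    refine ⟨Fintype.card n, ?_⟩
    have hmap : (Y.charpoly.map (algebraMap R B)).map (Ideal.Quotient.mk IB) = X ^ Fintype.card n := by
      rw [Polynomial.map_map]
      have : (Ideal.Quotient.mk IB).comp (algebraMap R B) =
          (Ideal.quotientMap IB (algebraMap R B) Ideal.le_comap_map).comp (Ideal.Quotient.mk I) :=
        RingHom.ext fun a ↦ rfl
      rw [this, ← Polynomial.map_map, hchar, Polynomial.map_pow, Polynomial.map_X]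
    rw [← Ideal.Quotient.eq_zero_iff_mem]
    have h1 := congrArg (Ideal.Quotient.mk IB) hz
    rw [map_zero, aeval_def, hom_eval₂, ← eval_map, ← Polynomial.map_map, hmap] at h1
    rw [map_pow]
    let _ : CommRing (B ⧸ IB) := Ideal.Quotient.commRing IB
    have h3 : ∀ z : B ⧸ IB, eval z ((X : (B ⧸ IB)[X]) ^ Fintype.card n) = z ^ Fintype.card n :=
      fun z ↦ by simp
    exact (h3 _).symm.trans h1
  have hB₁ : HenselianRing B IB := GrothLib.Hensel.henselianRing_of_isIntegral I B
  have hB₂ : HenselianRing B IB.radical :=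
    (GrothLib.Hensel.henselianRing_iff_of_radical_eq (Ideal.radical_idem IB).symm).mp hB₁
  have hB₃ : HenselianRing B J := GrothLib.Hensel.henselianRing_of_le hJ
  set b : B := Ideal.Quotient.mk K X
  have hfb : f b = X₀.map (Ideal.Quotient.mk I) := by
    show (aeval X₀ (X : R[X])).map (Ideal.Quotient.mk I) = _
    rw [aeval_X]
  obtain ⟨e, he, heJ⟩ := GrothLib.Hensel.exists_isIdempotentElem_lift (A := B) (I := J) (B := B) (b := b) (by
    rw [Algebra.algebraMap_self, Ideal.map_id]
    show f (b * b - b) = 0
    rw [map_sub, map_mul, hfb, hM.eq, sub_self])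
  obtain ⟨p, rfl⟩ := Ideal.Quotient.mk_surjective e
  refine ⟨p, he.map h, ?_⟩
  rw [Algebra.algebraMap_self, Ideal.map_id] at heJ
  have : f (Ideal.Quotient.mk K p - b) = 0 := heJ
  rw [map_sub, sub_eq_zero, hfb] at this
  exact this

end GrothLib.InvSect4
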