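import Groth.Agent.Lib.InvSect4.Root
import Groth.Agent.Lib.InvSect4.Fix

/-!
# Invariant sections of smooth algebras with a semilinear action
-/

set_option autoImplicit false
universe u v

open IsLocalRing

noncomputable section

namespace GrothLib.InvSect4

variable {A : Type u} [CommRing A] [HenselianLocalRing A] {B : Type u} [CommRing B] [Algebra A B]
  {ε : B →ₐ[A] ResidueField A}

/-- The section through a point killing functions dual to the tangent space. -/
theorem existsUnique_section (f : B) (hf : ε f ≠ 0) [Algebra.IsStandardSmooth A (Localization.Away f)]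
    {d : ℕ} (h : Fin d → B) (hh : ∀ l, ε (h l) = 0) (hinj : ∀ D ∈ Tan ε, (∀ l, D (h l) = 0) → D = 0)
    (hsurj : ∀ w : Fin d → ResidueField A, ∃ D ∈ Tan ε, ∀ l, D (h l) = w l) :
    ∃! α : B →ₐ[A] A, (∀ b, residue A (α b) = ε b) ∧ ∀ l, α (h l) = 0 := by
  let ι := IsScalarTower.toAlgHom A B (Localization.Away f)
  let ε' : Localization.Away f →ₐ[A] ResidueField A :=
    IsLocalization.Away.liftAlgHom f (f := ε) (isUnit_iff_ne_zero.2 hf)
  have hε' : ∀ b, ε' (ι b) = ε b := fun b => IsLocalization.lift_eq _ b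
  obtain ⟨α, ⟨hα, hαh⟩, hu⟩ := existsUnique_section_std (ε := ε') (fun l => ι (h l))
    (fun l => by rw [hε', hh]) (fun D hD h0 => by
      have h1 : (fun b => D (ι b)) ∈ Tan ε :=
        ⟨fun x y => by show D (ι (x + y)) = _; rw [map_add, hD.1],
          fun x y => by show D (ι (x * y)) = _; rw [map_mul, hD.2.1, hε', hε'],
          fun a => by show D (ι (algebraMap A B a)) = _; rw [ι.commutes, hD.2.2]⟩
      have h2 := hinj _ h1 h0
      funext x
      obtain ⟨n, b, hb⟩ := IsLocalization.Away.surj f x
      have h3 := congrArg D hb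
      rw [hD.2.1, show D (algebraMap B _ b) = 0 from congrFun h2 b, ← map_pow,
        show D (algebraMap B _ (f ^ n)) = 0 from congrFun h2 (f ^ n), mul_zero, zero_add,
        show ε' (algebraMap B _ (f ^ n)) = ε (f ^ n) from hε' _, map_pow] at h3
      exact (mul_eq_zero.1 h3).resolve_left (pow_ne_zero n hf))
    (fun w => by
      obtain ⟨D, hD, hDw⟩ := hsurj w
      have hu : IsUnit (dualHom D hD f) := by
        rw [TrivSqZeroExt.isUnit_iff_isUnit_fst, fst_dualHom]
        exact isUnit_iff_ne_zero.2 hf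
      let Φ : Localization.Away f →ₐ[A] TrivSqZeroExt (ResidueField A) (ResidueField A) :=
        IsLocalization.Away.liftAlgHom f (f := dualHom D hD) hu
      have hΦ : ∀ b, Φ (ι b) = dualHom D hD b := fun b => IsLocalization.lift_eq _ b
      refine ⟨fun x => (Φ x).snd, mem_tan_of_hom Φ fun x => ?_, fun l => by simp [hΦ, snd_dualHom, hDw]⟩
      have : (TrivSqZeroExt.fstHom A (ResidueField A) (ResidueField A)).comp Φ = ε' :=
        IsLocalization.algHom_ext (Submonoid.powers f) (AlgHom.ext fun b => by
          show (Φ (ι b)).fst = ε' (ι b)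
          rw [hΦ, hε', fst_dualHom])
      exact AlgHom.congr_fun this x)
  refine ⟨α.comp ι, ⟨fun b => by rw [AlgHom.comp_apply, hα, hε'], hαh⟩, fun β ⟨hβ, hβh⟩ => ?_⟩
  have hβu : IsUnit (β f) := isUnit_of_map_unit (residue A) _ (by rw [hβ]; exact isUnit_iff_ne_zero.2 hf)
  let β' : Localization.Away f →ₐ[A] A := IsLocalization.Away.liftAlgHom f (f := β) hβu
  have hβ' : ∀ b, β' (ι b) = β b := fun b => IsLocalization.lift_eq _ b
  have : β' = α := hu β' ⟨fun x => by
    have e : (IsScalarTower.toAlgHom A A (ResidueField A)).comp β' = ε' :=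
      IsLocalization.algHom_ext (Submonoid.powers f) (AlgHom.ext fun b => by
        show residue A (β' (ι b)) = ε' (ι b)
        rw [hβ', hε', hβ])
    exact AlgHom.congr_fun e x, fun l => by rw [hβ', hβh]⟩
  ext b
  rw [AlgHom.comp_apply, ← this, hβ']

variable {G : Type u} [Group G] [Finite G] [MulSemiringAction G A]

set_option maxHeartbeats 1000000 in
/-- An invariant section through a fixed point. -/
theorem exists_invariant_section (hG : IsUnit ((Nat.card G : ℕ) : ResidueField A))
    (htriv : ∀ (g : G) (a : A), g • a - a ∈ maximalIdeal A) [Algebra.FiniteType A B]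
    (τ : G → B →+* B) (hτ1 : ∀ b, τ 1 b = b) (hτmul : ∀ g h b, τ (g * h) b = τ g (τ h b))
    (hτA : ∀ g a, τ g (algebraMap A B a) = algebraMap A B (g • a)) (hfix : ∀ g b, ε (τ g b) = ε b)
    (f : B) (hf : ε f ≠ 0) [Algebra.IsStandardSmooth A (Localization.Away f)] :
    ∃ α : B →ₐ[A] A, (∀ b, residue A (α b) = ε b) ∧ ∀ g b, α (τ g b) = g • α b := by
  classical
  haveI := Fintype.ofFinite G
  rw [Nat.card_eq_fintype_card] at hG
  -- tangent space
  obtain ⟨gens, hgens⟩ := ‹Algebra.FiniteType A B›.out
  have hval : Function.Injective (fun (D : Tan ε) (x : gens) => D.1 x) := fun D E h => Subtype.ext (by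
    have hmem := (dualHom D.1 D.2).ext_of_adjoin_eq_top hgens (φ₂ := dualHom E.1 E.2) fun x hx => by
      refine TrivSqZeroExt.ext ?_ ?_
      · rw [fst_dualHom, fst_dualHom]
      · rw [snd_dualHom, snd_dualHom]; exact congrFun h ⟨x, hx⟩
    funext b
    rw [← snd_dualHom D.1 D.2, ← snd_dualHom E.1 E.2, hmem])
  let valL : Tan ε →ₗ[ResidueField A] (gens → ResidueField A) :=
    { toFun := fun D x => D.1 x, map_add' := fun _ _ => rfl, map_smul' := fun _ _ => rfl }
  haveI : FiniteDimensional (ResidueField A) (Tan ε) := FiniteDimensional.of_injective valL hval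
  let d := Module.finrank (ResidueField A) (Tan ε)
  let bs := Module.finBasis (ResidueField A) (Tan ε)
  let D : Fin d → B → ResidueField A := fun i => (bs i).1
  -- dual functions
  have hdual : ∀ w : Fin d → ResidueField A, ∃ t, ε t = 0 ∧ ∀ i, D i t = w i := by
    let P : Submodule (ResidueField A) (Fin d → ResidueField A) :=
      { carrier := {w | ∃ t, ε t = 0 ∧ ∀ i, D i t = w i}
        add_mem' := by
          rintro w w' ⟨t, ht, h⟩ ⟨t', ht', h'⟩
          exact ⟨t + t', by rw [map_add, ht, ht', add_zero], fun i => by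
            show (bs i).1 _ = _; rw [(bs i).2.1]; exact congrArg₂ (· + ·) (h i) (h' i)⟩
        zero_mem' := ⟨0, map_zero _, fun i => by
          have := (bs i).2.2.2 0
          rwa [map_zero] at this⟩
        smul_mem' := by
          rintro c w ⟨t, ht, h⟩
          obtain ⟨a, rfl⟩ := residue_surjective c
          refine ⟨algebraMap A B a * t, by rw [map_mul, ht, mul_zero], fun i => ?_⟩
          show (bs i).1 _ = _
          rw [(bs i).2.2.1, (bs i).2.2.2, ht, mul_zero, add_zero, ε.commutes]
          exact congrArg (residue A a * ·) (h i) }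
    by_contra hne
    push Not at hne
    obtain ⟨w, hw⟩ := hne
    have hwP : w ∉ P := fun ⟨t, ht, h⟩ => (hw t ht).elim fun i hi => hi (h i)
    obtain ⟨φ, hφw, hφ⟩ := Submodule.exists_dual_map_eq_bot_of_notMem hwP inferInstance
    let c : Fin d → ResidueField A := fun i => φ (Pi.single i 1)
    have hφ' : ∀ v : Fin d → ResidueField A, φ v = ∑ i, v i * c i := fun v => by
      conv_lhs => rw [pi_eq_sum_univ' v]
      simp [c, map_sum]
    have hc0 : ∑ i, c i • bs i = 0 := Subtype.ext (funext fun b => by
      obtain ⟨a, ha⟩ := residue_surjective (ε b)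
      have hb : ε (b - algebraMap A B a) = 0 := by
        rw [map_sub, ε.commutes, sub_eq_zero]; exact ha.symm
      have h0 : φ (fun i => D i (b - algebraMap A B a)) = 0 := by
        have : φ (fun i => D i (b - algebraMap A B a)) ∈ Submodule.map φ P :=
          Submodule.mem_map_of_mem ⟨_, hb, fun i => rfl⟩
        rwa [hφ, Submodule.mem_bot] at this
      rw [hφ'] at h0
      simp only [Submodule.coe_sum, Submodule.coe_smul, Finset.sum_apply, Pi.smul_apply, smul_eq_mul,
        Submodule.coe_zero, Pi.zero_apply]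
      refine Eq.trans (Finset.sum_congr rfl fun i _ => ?_) h0
      have hadd := (bs i).2.1 (b - algebraMap A B a) (algebraMap A B a)
      rw [sub_add_cancel, (bs i).2.2.2, add_zero] at hadd
      rw [mul_comm, hadd])
    have hc : ∀ i, c i = 0 := Fintype.linearIndependent_iff.1 bs.linearIndependent c hc0
    exact hφw (by rw [hφ']; simp [hc])
  choose t ht0 ht using fun j : Fin d => hdual (Pi.single j 1)
  -- the representation
  have hTτ : ∀ g i, (fun b => D i (τ g b)) ∈ Tan ε := fun g i =>
    ⟨fun x y => by show (bs i).1 _ = _; rw [map_add, (bs i).2.1],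
      fun x y => by show (bs i).1 _ = _; rw [map_mul, (bs i).2.2.1, hfix, hfix],
      fun a => by show (bs i).1 _ = _; rw [hτA, (bs i).2.2.2]⟩
  have hexp : ∀ E ∈ Tan ε, ∀ b, E b = ∑ i, E (t i) * D i b := fun E hE b => by
    have h1 : ∀ b, E b = ∑ i, bs.repr ⟨E, hE⟩ i * D i b := fun b => by
      have h3 := congrArg (fun F : Tan ε => F.1 b) (bs.sum_repr ⟨E, hE⟩)
      simp only [Submodule.coe_sum, Submodule.coe_smul, Finset.sum_apply, Pi.smul_apply, smul_eq_mul] at h3
      exact h3.symm
    have h2 : ∀ j, E (t j) = bs.repr ⟨E, hE⟩ j := fun j => by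
      rw [h1 (t j)]
      rw [Finset.sum_eq_single j (fun i _ hij => by rw [ht, Pi.single_eq_of_ne hij, mul_zero]) (by simp),
        ht, Pi.single_eq_same, mul_one]
    rw [h1 b]
    exact Finset.sum_congr rfl fun i _ => by rw [h2]
  let ρ : G → Matrix (Fin d) (Fin d) (ResidueField A) := fun g => Matrix.of fun i j => D i (τ g (t j))
  have hρ1 : ρ 1 = 1 := by
    ext i j; simp [ρ, hτ1, ht, Matrix.one_apply, Pi.single_apply]
  have hρmul : ∀ g h, ρ (g * h) = ρ g * ρ h := fun g h => by
    ext i j
    rw [Matrix.mul_apply]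
    show D i (τ (g * h) (t j)) = _
    rw [hτmul]
    exact (hexp _ (hTτ g i) (τ h (t j))).trans rfl
  -- matrices
  obtain ⟨ν, hν⟩ := hG.exists_left_inv
  let q : Matrix (Fin d) (G × Fin d) (ResidueField A) := Matrix.of fun i gj => ρ gj.1 i gj.2
  let s : Matrix (G × Fin d) (Fin d) (ResidueField A) := Matrix.of fun gi j => ν * ρ gi.1⁻¹ gi.2 j
  have hqs : q * s = 1 := by
    ext i j
    rw [Matrix.mul_apply, Fintype.sum_prod_type]
    have : ∀ g : G, ∑ k, q i (g, k) * s (g, k) j = ν * (1 : Matrix (Fin d) (Fin d) (ResidueField A)) i j := fun g => by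
      rw [← hρ1, ← mul_inv_cancel g, hρmul, Matrix.mul_apply, Finset.mul_sum]
      exact Finset.sum_congr rfl fun k _ => by simp [q, s]; ring
    simp only [this, Finset.sum_const, Finset.card_univ, nsmul_eq_mul]
    rw [← mul_assoc, mul_comm ((Fintype.card G : ℕ) : ResidueField A), hν, one_mul]
  have hsq : ∀ g k i j, (s * q) (g, i) (k, j) = ν * ρ (g⁻¹ * k) i j := fun g k i j => by
    rw [Matrix.mul_apply, hρmul, Matrix.mul_apply, Finset.mul_sum]
    exact Finset.sum_congr rfl fun l _ => by simp [q, s]; ring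
  let R := FixedPoints.subring A G
  haveI := henselianLocalRing_fixed htriv
  haveI : HenselianRing R (maximalIdeal R) := inferInstance
  let r : R →+* ResidueField A := (residue A).comp R.subtype
  choose l hl using residue_fixed_surjective htriv hG
  have hl' : ∀ c, r (l c) = c := hl
  let X₀ : Matrix (G × Fin d) (G × Fin d) R := Matrix.of fun gi kj => l (ν * ρ (gi.1⁻¹ * kj.1) gi.2 kj.2)
  have hrX : X₀.map r = s * q := by
    ext ⟨g, i⟩ ⟨k, j⟩
    simp [X₀, hl', hsq]
  have hker : ∀ x : R, Ideal.Quotient.mk (maximalIdeal R) x = 0 ↔ r x = 0 := fun x => by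
    rw [Ideal.Quotient.eq_zero_iff_mem, mem_maximalIdeal_fixed]
    exact (residue_eq_zero_iff _).symm
  have hmk : ∀ x y : R, Ideal.Quotient.mk (maximalIdeal R) x = Ideal.Quotient.mk (maximalIdeal R) y ↔
      r x = r y := fun x y => by
    rw [← sub_eq_zero, ← map_sub, hker, map_sub, sub_eq_zero]
  have hXidem : IsIdempotentElem (X₀.map (Ideal.Quotient.mk (maximalIdeal R))) := by
    show _ = _
    rw [← Matrix.map_mul]
    ext a b
    simp only [Matrix.map_apply]
    rw [hmk, ← Matrix.map_apply (f := r), ← Matrix.map_apply (f := r), Matrix.map_mul, hrX,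
      Matrix.mul_assoc, ← Matrix.mul_assoc q, hqs, Matrix.one_mul]
  obtain ⟨p, hEidem, hE⟩ := exists_idempotent_aeval (maximalIdeal R) X₀ hXidem
  set E := Polynomial.aeval X₀ p with hEdef
  have hrE : E.map r = s * q := by
    rw [← hrX]; ext a b
    exact (hmk _ _).1 (congrFun (congrFun hE a) b)
  have hEinv : ∀ (h : G) a b, E ((h * a.1, a.2)) ((h * b.1, b.2)) = E a b := fun h a b => by
    let e : G × Fin d ≃ G × Fin d := Equiv.prodCongr (Equiv.mulLeft h) (Equiv.refl _)
    have h1 : Matrix.reindexAlgEquiv R R e.symm X₀ = X₀ := by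
      ext ⟨g, i⟩ ⟨k, j⟩
      simp [X₀, e, mul_assoc]
    have h2 := congrFun (congrFun (Polynomial.aeval_algHom_apply (Matrix.reindexAlgEquiv R R e.symm).toAlgHom X₀ p) a) b
    simp only [AlgEquiv.coe_toAlgHom, h1] at h2
    exact h2.symm.trans rfl |>.trans rfl
  let S : Matrix (G × Fin d) (Fin d) R := s.map l
  let Q : Matrix (Fin d) (G × Fin d) R := q.map l
  have hrS : S.map r = s := by ext; simp [S, hl']
  have hrQ : Q.map r = q := by ext; simp [Q, hl']
  let M := Q * E * S
  have hrM : M.map r = 1 := by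
    rw [Matrix.map_mul, Matrix.map_mul, hrQ, hrE, hrS, ← Matrix.mul_assoc q, hqs, Matrix.one_mul, hqs]
  have unit_det : ∀ {n : Type u} [Fintype n] [DecidableEq n] (Y : Matrix n n R), Y.map r = 1 → IsUnit Y.det := by
    intro n _ _ Y hY
    refine isUnit_fixed (isUnit_of_map_unit (residue A) _ ?_)
    show IsUnit (r Y.det)
    rw [RingHom.map_det, RingHom.mapMatrix_apply, hY, Matrix.det_one]
    exact isUnit_one
  have hMdet : IsUnit M.det := by
    refine isUnit_fixed (isUnit_of_map_unit (residue A) _ ?_)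
    show IsUnit (r M.det)
    rw [RingHom.map_det, RingHom.mapMatrix_apply, hrM, Matrix.det_one]
    exact isUnit_one
  let C := E * S * M⁻¹
  have hfac : E = C * Q * E := by
    let F := C * Q * E
    have hEF : E * F = F := by simp only [F, C, ← Matrix.mul_assoc, hEidem.eq]
    have hFE : F * E = F := by simp only [F, Matrix.mul_assoc, hEidem.eq]
    have hFF : F * F = F := by
      have : Q * E * C = 1 := by
        simp only [C, ← Matrix.mul_assoc]
        rw [Matrix.mul_assoc Q E E, hEidem.eq]
        exact Matrix.mul_nonsing_inv M hMdet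
      calc F * F = C * (Q * E * C) * (Q * E) := by simp only [F, Matrix.mul_assoc]
        _ = F := by rw [this, Matrix.mul_one, ← Matrix.mul_assoc]
    have hrF : F.map r = s * q := by
      have hrMi : M⁻¹.map r = 1 := by
        have h1 := congrArg (fun Y : Matrix (Fin d) (Fin d) R => Y.map r) (Matrix.mul_nonsing_inv M hMdet)
        simp only [Matrix.map_mul, hrM, Matrix.one_mul] at h1
        rw [h1, Matrix.map_one _ (map_zero r) (map_one r)]
      simp only [F, C, Matrix.map_mul, hrE, hrS, hrQ, hrMi, Matrix.mul_one, Matrix.mul_assoc]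
      simp only [← Matrix.mul_assoc q s, hqs, Matrix.one_mul]
    have hK : (E - F) * (E - F) = E - F := by
      rw [Matrix.sub_mul, Matrix.mul_sub, Matrix.mul_sub, hEidem.eq, hEF, hFE, hFF]; abel
    have hu : IsUnit (1 - (E - F)).det := unit_det _ (by
      rw [Matrix.map_sub _ (map_sub r), Matrix.map_sub _ (map_sub r), hrE, hrF, sub_self, sub_zero,
        Matrix.map_one _ (map_zero r) (map_one r)])
    have h0 : (E - F) * (1 - (E - F)) = 0 := by rw [Matrix.mul_sub, Matrix.mul_one, hK, sub_self]
    have := congrArg (· * (1 - (E - F))⁻¹) h0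
    simp only [Matrix.zero_mul, Matrix.mul_assoc, Matrix.mul_nonsing_inv _ hu, Matrix.mul_one] at this
    exact sub_eq_zero.1 this
  -- the equations
  let j : R →+* B := (algebraMap A B).comp R.subtype
  have hj : ∀ g x, τ g (j x) = j x := fun g x => by
    show τ g (algebraMap A B (x : A)) = _
    rw [hτA, x.2 g]; rfl
  have hεj : ∀ x, ε (j x) = r x := fun x => ε.commutes _
  have hDj : ∀ i x, D i (j x) = 0 := fun i x => (bs i).2.2.2 _
  let T : Matrix Unit (G × Fin d) B := Matrix.of fun _ gj => τ gj.1 (t gj.2)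
  let h : Fin d → B := fun k => (T * C.map j) () k
  have hεT : ∀ gj, ε (T () gj) = 0 := fun gj => by simp [T, hfix, ht0]
  have hh : ∀ k, ε (h k) = 0 := fun k => by
    simp [h, Matrix.mul_apply, hεT]
  have hrC : C.map r = s := by
    have hrMi : M⁻¹.map r = 1 := by
      have h1 := congrArg (fun Y : Matrix (Fin d) (Fin d) R => Y.map r) (Matrix.mul_nonsing_inv M hMdet)
      simp only [Matrix.map_mul, hrM, Matrix.one_mul] at h1
      rw [h1, Matrix.map_one _ (map_zero r) (map_one r)]
    simp only [C, Matrix.map_mul, hrE, hrS, hrMi, Matrix.mul_one, Matrix.mul_assoc, hqs]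
  have hDsum : ∀ i (s' : Finset (G × Fin d)) (F : G × Fin d → B), D i (∑ x ∈ s', F x) = ∑ x ∈ s', D i (F x) :=
    fun i s' F => map_sum (AddMonoidHom.mk' (D i) (bs i).2.1) F s'
  have hDh : ∀ i k, D i (h k) = (1 : Matrix (Fin d) (Fin d) (ResidueField A)) i k := fun i k => by
    show D i ((T * C.map j) () k) = _
    rw [Matrix.mul_apply, hDsum, ← hqs, Matrix.mul_apply]
    refine Finset.sum_congr rfl fun gj _ => ?_
    show (bs i).1 _ = _
    rw [(bs i).2.2.1, hεT, zero_mul, zero_add, Matrix.map_apply, hεj,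
      show r (C gj k) = s gj k from congrFun (congrFun hrC gj) k]
    simp [q, ρ, T, D, mul_comm]
  obtain ⟨α, ⟨hα, hαh⟩, huniq⟩ := existsUnique_section f hf h hh
    (fun E' hE' h0 => by
      funext b
      have hsum : ∀ b, E' b = ∑ i, E' (t i) * D i b := hexp E' hE'
      have hz : ∀ i, E' (t i) = 0 := fun i => by
        have := hsum (h i)
        rw [h0, Finset.sum_eq_single i (fun k _ hk => by rw [hDh, Matrix.one_apply_ne hk, mul_zero]) (by simp),
          hDh, Matrix.one_apply_eq, mul_one] at this
        exact this.symm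
      rw [hsum b]; simp [hz])
    (fun w => ⟨∑ i, w i • D i, Submodule.sum_mem _ fun i _ => Submodule.smul_mem _ _ (bs i).2, fun k => by
      simp [Finset.sum_apply, hDh, Matrix.one_apply]⟩)
  -- stability
  have hαTE : ∀ b, α ((T * E.map j) () b) = 0 := fun b => by
    have : T * E.map j = (T * C.map j) * (Q * E).map j := by
      rw [Matrix.mul_assoc, ← Matrix.map_mul, ← Matrix.mul_assoc C, ← hfac]
    rw [this, Matrix.mul_apply, map_sum]
    exact Finset.sum_eq_zero fun k _ => by rw [map_mul, show α ((T * C.map j) () k) = 0 from hαh k, zero_mul]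
  have hshift : ∀ g b, τ g ((T * E.map j) () b) = (T * E.map j) () (g * b.1, b.2) := fun g b => by
    simp only [Matrix.mul_apply, map_sum, map_mul, Matrix.map_apply, hj]
    refine Fintype.sum_equiv (Equiv.prodCongr (Equiv.mulLeft g) (Equiv.refl _)) _ _ fun a => ?_
    rw [show E ((Equiv.prodCongr (Equiv.mulLeft g) (Equiv.refl (Fin d))) a) (g * b.1, b.2) = E a b from hEinv g a b]
    simp [T, hτmul]
  have hτh : ∀ g k, α (τ g (h k)) = 0 := fun g k => by
    have : h k = ∑ b, (T * E.map j) () b * j ((S * M⁻¹) b k) := by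
      show (T * C.map j) () k = _
      rw [show C = E * (S * M⁻¹) from Matrix.mul_assoc _ _ _, Matrix.map_mul, ← Matrix.mul_assoc, Matrix.mul_apply]
      simp
    rw [this, map_sum, map_sum]
    exact Finset.sum_eq_zero fun b _ => by rw [map_mul, hj, hshift, map_mul, hαTE, zero_mul]
  refine ⟨α, hα, fun g b => ?_⟩
  let β : B →ₐ[A] A :=
    { toRingHom := (MulSemiringAction.toRingHom G A g⁻¹).comp (α.toRingHom.comp (τ g))
      commutes' := fun a => by
        show g⁻¹ • α (τ g (algebraMap A B a)) = a
        rw [hτA, α.commutes]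
        exact inv_smul_smul g a }
  have hβ : β = α := huniq β ⟨fun b => by
    show residue A (g⁻¹ • α (τ g b)) = _
    rw [show residue A (g⁻¹ • α (τ g b)) = residue A (α (τ g b)) by
      rw [← sub_eq_zero, ← map_sub, residue_eq_zero_iff]; exact htriv _ _, hα, hfix], fun k => by
    show g⁻¹ • α (τ g (h k)) = 0
    rw [hτh, smul_zero]⟩
  have hb : g⁻¹ • α (τ g b) = α b := AlgHom.congr_fun hβ b
  rw [← hb, smul_inv_smul]

end GrothLib.InvSect4
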