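import Groth.Agent.Lib.InvSect4.Affine

/-!
# Invariant sections of smooth schemes
-/

set_option autoImplicit false
set_option backward.isDefEq.respectTransparency false
universe u

open CategoryTheory CategoryTheory.Limits AlgebraicGeometry IsLocalRing

noncomputable section

namespace GrothLib.InvSect4

theorem appTop_specMap_isoSpec_inv {A : Scheme.{u}} [IsAffine A] {R : CommRingCat.{u}} (φ : Γ(A, ⊤) ⟶ R) :
    (Spec.map φ ≫ A.isoSpec.inv).appTop = φ ≫ (Scheme.ΓSpecIso R).inv := by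
  have h1 : A.isoSpec.hom.appTop = (Scheme.ΓSpecIso Γ(A, ⊤)).hom := Scheme.toSpecΓ_appTop A
  have h2 : A.isoSpec.inv.appTop = (Scheme.ΓSpecIso Γ(A, ⊤)).inv := by
    rw [← cancel_mono A.isoSpec.hom.appTop, ← Scheme.Hom.comp_appTop, Iso.hom_inv_id, h1, Iso.inv_hom_id]
    rfl
  rw [Scheme.Hom.comp_appTop, h2, ← Scheme.ΓSpecIso_inv_naturality]

variable (A : Type u) [CommRing A] [HenselianLocalRing A] {G : Type u} [Group G] [Finite G] [MulSemiringAction G A]

set_option maxHeartbeats 1000000 in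
/-- The affine case. -/
theorem exists_invariant_of_isAffine (hG : IsUnit ((Nat.card G : ℕ) : ResidueField A))
    (htriv : ∀ (g : G) (a : A), g • a - a ∈ maximalIdeal A)
    {Y : Scheme.{u}} [IsAffine Y] (f : Y ⟶ Spec (CommRingCat.of A)) [Smooth f]
    (σ : G → (Y ⟶ Y)) (hσ1 : σ 1 = 𝟙 Y) (hσmul : ∀ g h : G, σ (g * h) = σ g ≫ σ h)
    (hσf : ∀ g : G, σ g ≫ f = f ≫ Spec.map (CommRingCat.ofHom (MulSemiringAction.toRingHom G A g)))
    (x : Spec (CommRingCat.of (ResidueField A)) ⟶ Y)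
    (hx : x ≫ f = Spec.map (CommRingCat.ofHom (residue A))) (hfix : ∀ g : G, x ≫ σ g = x) :
    ∃ a : Spec (CommRingCat.of A) ⟶ Y, a ≫ f = 𝟙 _ ∧ Spec.map (CommRingCat.ofHom (residue A)) ≫ a = x ∧
      ∀ g : G, Spec.map (CommRingCat.ofHom (MulSemiringAction.toRingHom G A g)) ≫ a = a ≫ σ g := by
  let Aᵣ := CommRingCat.of A
  let B := Γ(Y, ⊤)
  let s : Aᵣ ⟶ B := (Scheme.ΓSpecIso Aᵣ).inv ≫ f.appTop
  letI : Algebra A B := s.hom.toAlgebra
  have hft : f.appTop = (Scheme.ΓSpecIso Aᵣ).hom ≫ s := by simp [s]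
  have hsm : s.hom.Smooth := by
    show ((Scheme.ΓSpecIso Aᵣ).inv ≫ f.appTop).hom.Smooth
    rw [CommRingCat.hom_comp]
    exact RingHom.Smooth.respectsIso.2 _ (Scheme.ΓSpecIso Aᵣ).symm.commRingCatIsoToRingEquiv
      (HasRingHomProperty.appTop @Smooth f ‹_›)
  haveI : Algebra.FiniteType A B := RingHom.FiniteType.of_finitePresentation hsm.finitePresentation
  let e : B ⟶ CommRingCat.of (ResidueField A) := x.appTop ≫ (Scheme.ΓSpecIso _).hom
  have he : s ≫ e = CommRingCat.ofHom (residue A) := by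
    simp only [s, e, Category.assoc]
    rw [← Category.assoc f.appTop, ← Scheme.Hom.comp_appTop, hx, Scheme.ΓSpecIso_naturality,
      Iso.inv_hom_id_assoc]
  let ε : B →ₐ[A] ResidueField A :=
    { toRingHom := e.hom, commutes' := fun a => congrArg (fun φ => φ.hom a) he }
  let τ : G → B →+* B := fun g => (σ g).appTop.hom
  have hτA : ∀ g, s ≫ (σ g).appTop = CommRingCat.ofHom (MulSemiringAction.toRingHom G A g) ≫ s := fun g => by
    simp only [s, Category.assoc]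
    rw [← Scheme.Hom.comp_appTop, hσf, Scheme.Hom.comp_appTop, ← Category.assoc, ← Category.assoc,
      ← Scheme.ΓSpecIso_inv_naturality]
  -- a standard smooth neighbourhood
  obtain ⟨S, hS, hstd⟩ := hsm.locally_isStandardSmooth
  obtain ⟨t, htS, ht⟩ : ∃ t ∈ S, ε t ≠ 0 := by
    by_contra hc
    push Not at hc
    have h1 : Ideal.span S ≤ RingHom.ker ε.toRingHom := Ideal.span_le.2 hc
    rw [hS] at h1
    exact one_ne_zero ((map_one ε).symm.trans (h1 (Submodule.mem_top : (1 : B) ∈ (⊤ : Ideal B))))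
  haveI : Algebra.IsStandardSmooth A (Localization.Away t) := by
    have h2 := hstd t htS
    have e' : (algebraMap B (Localization.Away t)).comp s.hom = algebraMap A (Localization.Away t) :=
      (IsScalarTower.algebraMap_eq A B (Localization.Away t)).symm
    rwa [e', RingHom.isStandardSmooth_algebraMap] at h2
  obtain ⟨α, hα, hαG⟩ := exists_invariant_section (ε := ε) hG htriv τ
    (fun b => by show (σ 1).appTop.hom b = b; rw [hσ1, Scheme.Hom.id_appTop]; rfl) (fun g h b => by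
      show (σ (g * h)).appTop.hom b = (σ g).appTop.hom ((σ h).appTop.hom b)
      rw [hσmul, Scheme.Hom.comp_appTop, CommRingCat.comp_apply])
    (fun g a => congrArg (fun φ => φ.hom a) (hτA g))
    (fun g b => congrArg (fun φ : B ⟶ CommRingCat.of (ResidueField A) => φ.hom b) (show (σ g).appTop ≫ e = e by
      simp only [e]; rw [← Category.assoc, ← Scheme.Hom.comp_appTop, hfix])) t ht
  let αc : B ⟶ Aᵣ := CommRingCat.ofHom α.toRingHom
  refine ⟨Spec.map αc ≫ Y.isoSpec.inv, ?_, ?_, fun g => ?_⟩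
  · refine ext_of_isAffine ?_
    rw [Scheme.Hom.comp_appTop, appTop_specMap_isoSpec_inv, Scheme.Hom.id_appTop, hft]
    have : s ≫ αc = 𝟙 Aᵣ := CommRingCat.hom_ext (RingHom.ext fun a => α.commutes a)
    simp only [Category.assoc]
    rw [reassoc_of% this, Iso.hom_inv_id]
  · refine ext_of_isAffine ?_
    rw [Scheme.Hom.comp_appTop, appTop_specMap_isoSpec_inv]
    have : αc ≫ CommRingCat.ofHom (residue A) = e := CommRingCat.hom_ext (RingHom.ext hα)
    rw [Category.assoc, ← Scheme.ΓSpecIso_inv_naturality, ← Category.assoc, this]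
    simp [e]
  · refine ext_of_isAffine ?_
    rw [Scheme.Hom.comp_appTop (Spec.map (CommRingCat.ofHom (MulSemiringAction.toRingHom G A g))),
      Scheme.Hom.comp_appTop (Spec.map αc ≫ Y.isoSpec.inv) (σ g), appTop_specMap_isoSpec_inv]
    have : (σ g).appTop ≫ αc = αc ≫ CommRingCat.ofHom (MulSemiringAction.toRingHom G A g) :=
      CommRingCat.hom_ext (RingHom.ext fun b => hαG g b)
    rw [Category.assoc, ← Scheme.ΓSpecIso_inv_naturality, ← Category.assoc, ← this, Category.assoc]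

theorem isAffineOpen_iInf_of_le {X : Scheme.{u}} {ι : Type*} [Finite ι] [Nonempty ι] {U : X.Opens}
    (hU : IsAffineOpen U) (V : ι → X.Opens) (hV : ∀ i, IsAffineOpen (V i)) (hle : ∀ i, V i ≤ U) :
    IsAffineOpen (⨅ i, V i) := by
  haveI : IsAffine U := hU
  have h : ∀ i, IsAffineOpen (U.ι ⁻¹ᵁ V i) := fun i =>
    (hV i).preimage_of_isOpenImmersion U.ι (by rw [Scheme.Opens.opensRange_ι]; exact hle i)
  have h2 := (IsAffineOpen.iInf (U := fun i => U.ι ⁻¹ᵁ V i) h).image_of_isOpenImmersion U.ι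
  convert h2 using 1
  obtain ⟨i0⟩ := ‹Nonempty ι›
  refine le_antisymm (fun y hy => ?_) ?_
  · have hyi : ∀ i, y ∈ V i := fun i => (iInf_le V i : (⨅ i, V i) ≤ V i) hy
    refine ⟨⟨y, hle i0 (hyi i0)⟩, ?_, rfl⟩
    show _ ∈ ((⨅ i, U.ι ⁻¹ᵁ V i : TopologicalSpace.Opens U) : Set U)
    rw [TopologicalSpace.Opens.coe_iInf]
    exact Set.mem_iInter.2 hyi
  · refine le_iInf fun i => ?_
    rintro _ ⟨z, hz, rfl⟩
    exact (iInf_le (fun i => U.ι ⁻¹ᵁ V i) i : (⨅ i, U.ι ⁻¹ᵁ V i) ≤ U.ι ⁻¹ᵁ V i) hz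

set_option maxHeartbeats 1000000 in
/-- An invariant section through a fixed rational point. -/
theorem exists_invariant (hG : IsUnit ((Nat.card G : ℕ) : ResidueField A))
    (htriv : ∀ (g : G) (a : A), g • a - a ∈ maximalIdeal A)
    {X : Scheme.{u}} (f : X ⟶ Spec (CommRingCat.of A)) [Smooth f]
    (σ : G → (X ⟶ X)) (hσ1 : σ 1 = 𝟙 X) (hσmul : ∀ g h : G, σ (g * h) = σ g ≫ σ h)
    (hσf : ∀ g : G, σ g ≫ f = f ≫ Spec.map (CommRingCat.ofHom (MulSemiringAction.toRingHom G A g)))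
    (x : Spec (CommRingCat.of (ResidueField A)) ⟶ X)
    (hx : x ≫ f = Spec.map (CommRingCat.ofHom (residue A))) (hfix : ∀ g : G, x ≫ σ g = x) :
    ∃ a : Spec (CommRingCat.of A) ⟶ X, a ≫ f = 𝟙 _ ∧ Spec.map (CommRingCat.ofHom (residue A)) ≫ a = x ∧
      ∀ g : G, Spec.map (CommRingCat.ofHom (MulSemiringAction.toRingHom G A g)) ≫ a = a ≫ σ g := by
  haveI hiso : ∀ g, IsIso (σ g) := fun g =>
    ⟨⟨σ g⁻¹, by rw [← hσmul, mul_inv_cancel, hσ1], by rw [← hσmul, inv_mul_cancel, hσ1]⟩⟩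
  obtain ⟨pt⟩ : Nonempty (Spec (CommRingCat.of (ResidueField A))) := inferInstance
  let x₀ := x pt
  have hx₀ : ∀ g, σ g x₀ = x₀ := fun g => by
    show σ g (x pt) = x pt
    rw [← Scheme.Hom.comp_apply, hfix]
  obtain ⟨_, ⟨U, hU, rfl⟩, hxU, -⟩ :=
    X.isBasis_affineOpens.exists_subset_of_mem_open (Set.mem_univ x₀) isOpen_univ
  let W : X.Opens := ⨅ g, σ g ⁻¹ᵁ U
  have memInf : ∀ (V : X.Opens) (y : X), y ∈ ⨅ g, σ g ⁻¹ᵁ V ↔ ∀ g, σ g y ∈ V := fun V y => by
    show y ∈ ((⨅ g, σ g ⁻¹ᵁ V : X.Opens) : Set X) ↔ _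
    rw [TopologicalSpace.Opens.coe_iInf, Set.mem_iInter]
    rfl
  have hWx : x₀ ∈ W := (memInf U x₀).2 fun g => by rw [hx₀]; exact hxU
  have hWstable : ∀ g, σ g ⁻¹ᵁ W = W := fun g => by
    ext y
    show σ g y ∈ W ↔ y ∈ W
    rw [memInf, memInf]
    refine ⟨fun h k => ?_, fun h k => ?_⟩
    · have := h (g⁻¹ * k)
      rwa [← Scheme.Hom.comp_apply, ← hσmul, mul_inv_cancel_left] at this
    · rw [← Scheme.Hom.comp_apply, ← hσmul]
      exact h _
  obtain ⟨_, ⟨V, hV, rfl⟩, hxV, hVW⟩ :=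
    X.isBasis_affineOpens.exists_subset_of_mem_open hWx W.2
  let Y₀ : X.Opens := ⨅ g, σ g ⁻¹ᵁ V
  have hY₀ : IsAffineOpen Y₀ := isAffineOpen_iInf_of_le hU _ (fun g => hV.preimage_of_isIso (σ g)) fun g y hy => by
    have h1 : y ∈ W := by rw [← hWstable g]; exact hVW hy
    have := (memInf U y).1 h1 1
    rw [hσ1] at this
    exact this
  have hstable : ∀ g y, y ∈ Y₀ → σ g y ∈ Y₀ := fun g y hy => by
    rw [memInf] at hy ⊢
    intro k
    rw [← Scheme.Hom.comp_apply, ← hσmul]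
    exact hy _
  haveI : IsAffine Y₀ := hY₀
  have hrange : ∀ g, Set.range (Y₀.ι ≫ σ g) ⊆ Set.range Y₀.ι := fun g => by
    rintro _ ⟨y, rfl⟩
    rw [Scheme.Opens.range_ι, Scheme.Hom.comp_apply]
    exact hstable g _ y.2
  have hxr : Set.range x ⊆ Set.range Y₀.ι := by
    rintro _ ⟨y, rfl⟩
    rw [Scheme.Opens.range_ι, Subsingleton.elim y pt]
    exact (memInf V x₀).2 fun g => by rw [hx₀]; exact hxV
  let σ' : G → ((Y₀ : Scheme.{u}) ⟶ Y₀) := fun g => IsOpenImmersion.lift Y₀.ι (Y₀.ι ≫ σ g) (hrange g)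
  have hσ' : ∀ g, σ' g ≫ Y₀.ι = Y₀.ι ≫ σ g := fun g => IsOpenImmersion.lift_fac _ _ _
  let x' := IsOpenImmersion.lift Y₀.ι x hxr
  have hx' : x' ≫ Y₀.ι = x := IsOpenImmersion.lift_fac _ _ _
  obtain ⟨a, ha1, ha2, ha3⟩ := exists_invariant_of_isAffine A hG htriv (Y₀.ι ≫ f) σ'
    (by rw [← cancel_mono Y₀.ι, hσ', hσ1, Category.comp_id, Category.id_comp])
    (fun g h => by
      rw [← cancel_mono Y₀.ι, hσ', hσmul, Category.assoc, hσ', ← Category.assoc (σ' g), hσ', Category.assoc])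
    (fun g => by rw [← Category.assoc, hσ', Category.assoc, hσf, Category.assoc])
    x' (by rw [← Category.assoc, hx', hx]) (fun g => by
      rw [← cancel_mono Y₀.ι, Category.assoc, hσ', ← Category.assoc, hx', hfix])
  refine ⟨a ≫ Y₀.ι, by rw [Category.assoc, ha1], by rw [← Category.assoc, ha2, hx'], fun g => ?_⟩
  rw [← Category.assoc, ha3, Category.assoc, hσ', Category.assoc]

end GrothLib.InvSect4
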