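import Groth.Agent.Lib.Hensel.MultivarRoot
import Mathlib

/-!
# Sections through a point cut out by functions dual to the tangent space
-/

set_option autoImplicit false
universe u v

open IsLocalRing MvPolynomial TrivSqZeroExt

noncomputable section

namespace GrothLib.InvSect4

/-- First order expansion of a polynomial. -/
theorem aeval_add_of_sq_zero {A R ι : Type*} [CommRing A] [CommRing R] [Algebra A R] [Fintype ι]
    [DecidableEq ι] (a δ : ι → R) (hδ : ∀ i j, δ i * δ j = 0) (p : MvPolynomial ι A) :
    aeval (fun i => a i + δ i) p = aeval a p + ∑ j, aeval a (pderiv j p) * δ j := by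
  induction p using MvPolynomial.induction_on with
  | C r => simp
  | add p q hp hq =>
    simp only [map_add, hp, hq, add_mul, Finset.sum_add_distrib]
    ring
  | mul_X p k hp =>
    have h1 : (∑ j, aeval a (pderiv j p) * δ j) * δ k = 0 := by
      rw [Finset.sum_mul]
      exact Finset.sum_eq_zero fun j _ => by rw [mul_assoc, hδ, mul_zero]
    have h2 : ∑ j, aeval a (pderiv j (p * X k)) * δ j =
        (∑ j, aeval a (pderiv j p) * δ j) * a k + aeval a p * δ k := by
      simp only [pderiv_mul, pderiv_X, map_add, map_mul, aeval_X, add_mul, Finset.sum_add_distrib]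
      congr 1
      · rw [Finset.sum_mul]
        exact Finset.sum_congr rfl fun j _ => by ring
      · rw [Finset.sum_eq_single k (fun j _ hj => by simp [Pi.single_apply, hj, Ne.symm hj]) (by simp)]
        simp
    rw [map_mul, aeval_X, hp, h2, map_mul, aeval_X]
    linear_combination h1

variable {A : Type u} [CommRing A] [HenselianLocalRing A] {B : Type v} [CommRing B] [Algebra A B]

/-- Tangent vectors at a point with values in the residue field. -/
def Tan (ε : B →ₐ[A] ResidueField A) : Submodule (ResidueField A) (B → ResidueField A) where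
  carrier := {D | (∀ x y, D (x + y) = D x + D y) ∧ (∀ x y, D (x * y) = ε x * D y + ε y * D x) ∧
    ∀ a, D (algebraMap A B a) = 0}
  add_mem' := fun {D E} hD hE => ⟨fun x y => by simp only [Pi.add_apply, hD.1, hE.1]; ring,
    fun x y => by simp only [Pi.add_apply, hD.2.1, hE.2.1]; ring,
    fun a => by simp only [Pi.add_apply, hD.2.2, hE.2.2, add_zero]⟩
  zero_mem' := ⟨fun x y => by simp, fun x y => by simp, fun a => rfl⟩
  smul_mem' := fun c D hD => ⟨fun x y => by simp only [Pi.smul_apply, smul_eq_mul, hD.1]; ring,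
    fun x y => by simp only [Pi.smul_apply, smul_eq_mul, hD.2.1]; ring,
    fun a => by simp only [Pi.smul_apply, hD.2.2, smul_zero]⟩

variable {ε : B →ₐ[A] ResidueField A}

/-- The homomorphism to dual numbers of a tangent vector. -/
def dualHom (D : B → ResidueField A) (hD : D ∈ Tan ε) : B →ₐ[A] TrivSqZeroExt (ResidueField A) (ResidueField A) where
  toFun x := inl (ε x) + inr (D x)
  map_one' := by
    have h := hD.2.2 1
    rw [map_one] at h
    ext <;> simp [h]
  map_mul' x y := by
    ext
    · simp
    · simp [hD.2.1 x y]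
      ring
  map_zero' := by
    have h := hD.2.2 0
    rw [map_zero] at h
    ext <;> simp [h]
  map_add' x y := by ext <;> simp [hD.1 x y]
  commutes' a := by
    ext
    · simp [TrivSqZeroExt.algebraMap_eq_inl']
    · simp [TrivSqZeroExt.algebraMap_eq_inl', hD.2.2 a]

theorem snd_dualHom (D : B → ResidueField A) (hD : D ∈ Tan ε) (x : B) : (dualHom D hD x).snd = D x := by
  show (inl (ε x) + inr (D x)).snd = D x
  simp

theorem fst_dualHom (D : B → ResidueField A) (hD : D ∈ Tan ε) (x : B) : (dualHom D hD x).fst = ε x := by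
  show (inl (ε x) + inr (D x)).fst = ε x
  simp

theorem mem_tan_of_hom (Φ : B →ₐ[A] TrivSqZeroExt (ResidueField A) (ResidueField A))
    (h : ∀ x, (Φ x).fst = ε x) : (fun x => (Φ x).snd) ∈ Tan ε :=
  ⟨fun x y => by simp, fun x y => by simp [← h]; ring,
    fun a => by simp [TrivSqZeroExt.algebraMap_eq_inl']⟩

set_option maxHeartbeats 1000000 in
/-- The section through a point killing functions dual to the tangent space, standard smooth case. -/
theorem existsUnique_section_std [Algebra.IsStandardSmooth A B] {d : ℕ} (h : Fin d → B)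
    (hh : ∀ l, ε (h l) = 0) (hinj : ∀ D ∈ Tan ε, (∀ l, D (h l) = 0) → D = 0)
    (hsurj : ∀ w : Fin d → ResidueField A, ∃ D ∈ Tan ε, ∀ l, D (h l) = w l) :
    ∃! α : B →ₐ[A] A, (∀ b, residue A (α b) = ε b) ∧ ∀ l, α (h l) = 0 := by
  classical
  obtain ⟨ι, σ, _, _, ⟨P⟩⟩ := ‹Algebra.IsStandardSmooth A B›.out
  haveI := Fintype.ofFinite ι
  haveI := Fintype.ofFinite σ
  let π : MvPolynomial ι A →ₐ[A] B := aeval P.val
  have hπ : Function.Surjective π := fun b => ⟨P.σ b, P.aeval_val_σ b⟩
  choose a₀ ha₀ using fun i => residue_surjective (ε (P.val i))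
  choose hl hhl using fun l => hπ (h l)
  let F : σ ⊕ Fin d → MvPolynomial ι A := Sum.elim P.relation hl
  have hεπ : ∀ p, ε (π p) = residue A (eval a₀ p) := fun p => by
    have : ε.comp π = (IsScalarTower.toAlgHom A A (ResidueField A)).comp (aeval a₀) :=
      MvPolynomial.algHom_ext fun i => by simp [π, ha₀]
    simpa [aeval_eq_eval] using AlgHom.congr_fun this p
  have hrel : ∀ s, π (P.relation s) = 0 := fun s => P.aeval_val_relation s
  have hF0 : ∀ r, residue A (eval a₀ (F r)) = 0 := by
    rintro (s | l)
    · rw [← hεπ]; simp [F, hrel]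
    · rw [← hεπ]; simp [F, hhl, hh]
  let J : Matrix (σ ⊕ Fin d) ι (ResidueField A) := Matrix.of fun r j => residue A (eval a₀ (pderiv j (F r)))
  let L := Matrix.mulVecLin J
  let ψ : (ι → ResidueField A) → MvPolynomial ι A →ₐ[A] TrivSqZeroExt (ResidueField A) (ResidueField A) :=
    fun w => aeval fun i => inl (residue A (a₀ i)) + inr (w i)
  have hψ : ∀ (w : ι → ResidueField A) (p : MvPolynomial ι A),
      ψ w p = inl (residue A (eval a₀ p)) + inr (∑ j, residue A (eval a₀ (pderiv j p)) * w j) := fun w p => by
    have ha : ∀ q : MvPolynomial ι A, aeval (fun i => (inl (residue A (a₀ i)) :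
        TrivSqZeroExt (ResidueField A) (ResidueField A))) q = inl (residue A (eval a₀ q)) := fun q => by
      induction q using MvPolynomial.induction_on with
      | C r => simp [TrivSqZeroExt.algebraMap_eq_inl']
      | add p q hp hq => simp [map_add, hp, hq]
      | mul_X p k hp => simp [hp, ← TrivSqZeroExt.inl_mul]
    show aeval _ p = _
    rw [aeval_add_of_sq_zero _ _ (fun i j => TrivSqZeroExt.inr_mul_inr _ _ _) p]
    simp only [ha]
    congr 1
    rw [TrivSqZeroExt.inr_sum]
    exact Finset.sum_congr rfl fun j _ => by rw [TrivSqZeroExt.inl_mul_inr, smul_eq_mul]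
  have htan : ∀ w : ι → ResidueField A, (∀ s, L w (Sum.inl s) = 0) →
      ∃ D ∈ Tan ε, ∀ p, D (π p) = ∑ j, residue A (eval a₀ (pderiv j p)) * w j := by
    intro w hw
    have hker : RingHom.ker π.toRingHom ≤ RingHom.ker (ψ w).toRingHom := by
      show RingHom.ker (aeval P.val).toRingHom ≤ _
      have : Ideal.span (Set.range P.relation) = RingHom.ker (aeval P.val).toRingHom :=
        P.span_range_relation_eq_ker.trans P.ker_eq_ker_aeval_val
      rw [← this, Ideal.span_le]
      rintro _ ⟨s, rfl⟩
      show ψ w (P.relation s) = 0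
      rw [hψ, show residue A (eval a₀ (P.relation s)) = 0 from hF0 (Sum.inl s)]
      have := hw s
      simp [L, J, F, Matrix.mulVec, dotProduct] at this
      simp [this]
    let Φ := AlgHom.liftOfSurjective π hπ (ψ w) hker
    have hΦ : ∀ p, Φ (π p) = ψ w p := fun p => AlgHom.liftOfSurjective_apply π hπ (ψ w) hker p
    refine ⟨fun x => (Φ x).snd, mem_tan_of_hom Φ fun x => ?_, fun p => ?_⟩
    · obtain ⟨p, rfl⟩ := hπ x
      simp [hΦ, hψ, hεπ]
    · simp [hΦ, hψ]
  have Linj : Function.Injective L := by
    rw [injective_iff_map_eq_zero]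
    intro w hw
    obtain ⟨D, hD, hDp⟩ := htan w fun s => by rw [hw]; rfl
    have h0 : D = 0 := hinj D hD fun l => by
      rw [← hhl, hDp]
      have := congrFun hw (Sum.inr l)
      simpa [L, J, F, Matrix.mulVec, dotProduct] using this
    funext i
    have := hDp (X i)
    rw [h0] at this
    simpa [pderiv_X, Pi.single_apply, apply_ite (eval a₀), apply_ite (residue A)] using this.symm
  have Lsurj : Function.Surjective L := by
    intro r
    let M : Matrix σ σ (ResidueField A) := Matrix.of fun s t => J (Sum.inl s) (P.map t)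
    have hM : IsUnit M.det := by
      have h1 := P.jacobian_isUnit.map ε
      rw [P.jacobian_eq_jacobiMatrix_det, Algebra.Generators.algebraMap_apply] at h1
      change IsUnit (ε (π P.jacobiMatrix.det)) at h1
      rw [hεπ, RingHom.map_det, RingHom.map_det] at h1
      refine Eq.mp (congrArg IsUnit ?_) h1
      rw [← Matrix.det_transpose]
      congr 1
      ext s t
      simp [M, J, F, Algebra.PreSubmersivePresentation.jacobiMatrix_apply]
    obtain ⟨v0, hv0⟩ := (Matrix.mulVec_surjective_iff_isUnit.2 ((Matrix.isUnit_iff_isUnit_det M).2 hM))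
      (fun s => r (Sum.inl s))
    let w0 : ι → ResidueField A := Function.extend P.map v0 0
    have hw0 : ∀ s, L w0 (Sum.inl s) = r (Sum.inl s) := fun s => by
      rw [← congrFun hv0 s]
      simp only [L, Matrix.mulVecLin_apply, Matrix.mulVec, dotProduct, M, Matrix.of_apply, w0]
      refine (Finset.sum_of_injOn P.map P.map_inj.injOn (by simp) (fun j _ hj => ?_) fun t _ => ?_).symm
      · rw [Function.extend_apply' _ _ _ (by rintro ⟨t, rfl⟩; exact hj ⟨t, by simp, rfl⟩)]
        simp
      · rw [P.map_inj.extend_apply]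
    obtain ⟨D, hD, hDl⟩ := hsurj fun l => r (Sum.inr l) - L w0 (Sum.inr l)
    let w1 : ι → ResidueField A := fun i => D (P.val i)
    have hw1 : ∀ p, D (π p) = ∑ j, residue A (eval a₀ (pderiv j p)) * w1 j := fun p => by
      have e : (dualHom D hD).comp π = ψ w1 := MvPolynomial.algHom_ext fun i => by
        ext
        · simp [ψ, π, fst_dualHom, ha₀]
        · simp [ψ, π, snd_dualHom, w1]
      have := congrArg (fun f : MvPolynomial ι A →ₐ[A] _ => (f p).snd) e
      simpa [snd_dualHom, hψ] using this
    refine ⟨w0 + w1, funext fun q => ?_⟩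
    have hL1 : L w1 q = D (π (F q)) := by
      rw [hw1]; simp [L, J, Matrix.mulVec, dotProduct]
    rw [map_add, Pi.add_apply, hL1]
    rcases q with s | l
    · have : D (π (P.relation s)) = 0 := by
        rw [hrel, ← map_zero (algebraMap A B), hD.2.2]
      simp [F, this, hw0]
    · simp [F, hhl, hDl]
  have hcard : Fintype.card ι = Fintype.card (σ ⊕ Fin d) := by
    simpa using (LinearEquiv.ofBijective L ⟨Linj, Lsurj⟩).finrank_eq
  let e : ι ≃ σ ⊕ Fin d := Fintype.equivOfCardEq hcard
  let Fi : ι → MvPolynomial ι A := fun i => F (e i)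
  have hdet : IsUnit (residue A (Matrix.of fun i j => eval a₀ (pderiv j (Fi i))).det) := by
    rw [RingHom.map_det, ← Matrix.isUnit_iff_isUnit_det, ← Matrix.mulVec_injective_iff_isUnit]
    intro w w' hww
    refine Linj (funext fun q => ?_)
    have := congrFun hww (e.symm q)
    simpa [L, J, Fi, Matrix.mulVec, dotProduct] using this
  have hI0 : ∀ i, eval a₀ (Fi i) ∈ maximalIdeal A := fun i =>
    (residue_eq_zero_iff _).1 (hF0 (e i))
  obtain ⟨a, haF, ha⟩ := GrothLib.Hensel.exists_multivariate_root (I := maximalIdeal A) Fi a₀ hI0 hdet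
  have hroot : ∀ q, eval a (F q) = 0 := fun q => by simpa [Fi] using haF (e.symm q)
  have hker : RingHom.ker π.toRingHom ≤ RingHom.ker (aeval a : MvPolynomial ι A →ₐ[A] A).toRingHom := by
    show RingHom.ker (aeval P.val).toRingHom ≤ _
    have : Ideal.span (Set.range P.relation) = RingHom.ker (aeval P.val).toRingHom :=
      P.span_range_relation_eq_ker.trans P.ker_eq_ker_aeval_val
    rw [← this, Ideal.span_le]
    rintro _ ⟨s, rfl⟩
    simpa [aeval_eq_eval, F] using hroot (Sum.inl s)
  let α := AlgHom.liftOfSurjective π hπ (aeval a) hker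
  have hα : ∀ p, α (π p) = eval a p := fun p => by
    rw [AlgHom.liftOfSurjective_apply, aeval_eq_eval]
  have hres : ∀ i, residue A (a i) = residue A (a₀ i) := fun i => by
    rw [← sub_eq_zero, ← map_sub, residue_eq_zero_iff]; exact ha i
  refine ⟨α, ⟨fun b => ?_, fun l => ?_⟩, fun β ⟨hβ, hβh⟩ => ?_⟩
  · obtain ⟨p, rfl⟩ := hπ b
    have : (IsScalarTower.toAlgHom A A (ResidueField A)).comp (aeval a) = ε.comp π :=
      MvPolynomial.algHom_ext fun i => by simp [π, ← ha₀, hres]
    rw [hα, ← aeval_eq_eval]
    exact AlgHom.congr_fun this p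
  · rw [← hhl, hα]; exact hroot (Sum.inr l)
  · refine AlgHom.ext fun b => ?_
    obtain ⟨p, rfl⟩ := hπ b
    let c : ι → A := fun i => β (P.val i)
    have hc : ∀ p, β (π p) = eval c p := fun p => by
      have : β.comp π = aeval c := MvPolynomial.algHom_ext fun i => by simp [π, c]
      rw [← aeval_eq_eval]; exact AlgHom.congr_fun this p
    suffices c = a by rw [hc, hα, this]
    let δ : ι → A := fun i => c i - a i
    let 𝔡 : Ideal A := Ideal.span (Set.range δ)
    let N : Ideal A := maximalIdeal A * 𝔡
    have hδm : ∀ i, δ i ∈ maximalIdeal A := fun i => by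
      rw [← residue_eq_zero_iff, map_sub, hres, ha₀, hβ, sub_self]
    have hcF : ∀ q, eval c (F q) = 0 := by
      rintro (s | l)
      · rw [← hc]; simp [F, hrel]
      · rw [← hc]; simp [F, hhl, hβh]
    let K : Matrix ι ι A := Matrix.of fun i j => eval a (pderiv j (Fi i))
    have hK : ∀ i, Ideal.Quotient.mk N (∑ j, K i j * δ j) = 0 := fun i => by
      have h2 := aeval_add_of_sq_zero (A := A) (fun j => Ideal.Quotient.mk N (a j))
        (fun j => Ideal.Quotient.mk N (δ j)) (fun j k => by
          rw [← map_mul, Ideal.Quotient.eq_zero_iff_mem]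
          exact Ideal.mul_mem_mul (hδm j) (Ideal.subset_span ⟨k, rfl⟩)) (Fi i)
      have hev : ∀ (x : ι → A) (q : MvPolynomial ι A),
          aeval (fun j => Ideal.Quotient.mk N (x j)) q = Ideal.Quotient.mk N (eval x q) := fun x q => by
        rw [← aeval_eq_eval]
        exact (aeval_algebraMap_apply (B := A ⧸ N) x q).trans rfl
      have e1 : (fun j => Ideal.Quotient.mk N (a j) + Ideal.Quotient.mk N (δ j)) =
          fun j => Ideal.Quotient.mk N (c j) := by
        funext j; rw [← map_add]; congr 1; simp [δ]
      rw [e1, hev, hev, show eval c (Fi i) = 0 from hcF _, show eval a (Fi i) = 0 from haF i, map_zero,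
        zero_add] at h2
      simp only [map_sum, map_mul]
      refine Eq.trans (Finset.sum_congr rfl fun j _ => ?_) h2.symm
      rw [hev]
      simp [K]
    have hKdet : IsUnit K.det := by
      have : IsUnit (residue A K.det) := by
        convert hdet using 1
        rw [RingHom.map_det, RingHom.map_det]
        congr 1
        ext i j
        simp only [RingHom.mapMatrix_apply, Matrix.map_apply, K, Matrix.of_apply]
        induction pderiv j (Fi i) using MvPolynomial.induction_on with
        | C r => simp
        | add p q hp hq => simp [hp, hq]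
        | mul_X p k hp => simp [hp, hres]
      exact isUnit_of_map_unit (residue A) _ this
    have hle : 𝔡 ≤ maximalIdeal A * 𝔡 := by
      refine Ideal.span_le.2 ?_
      rintro _ ⟨i, rfl⟩
      have h4 : K⁻¹.mulVec (K.mulVec δ) = δ := by
        rw [Matrix.mulVec_mulVec, Matrix.nonsing_inv_mul _ hKdet, Matrix.one_mulVec]
      rw [SetLike.mem_coe, ← h4, Matrix.mulVec, dotProduct]
      exact Ideal.sum_mem _ fun j _ => Ideal.mul_mem_left _ _ (Ideal.Quotient.eq_zero_iff_mem.1 (hK j))
    have h0 : 𝔡 = ⊥ := Submodule.eq_bot_of_le_smul_of_le_jacobson_bot (maximalIdeal A) 𝔡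
      (Submodule.fg_span (Set.finite_range δ)) hle (maximalIdeal_le_jacobson ⊥)
    funext i
    exact sub_eq_zero.1 ((Submodule.mem_bot A).1 (h0 ▸ Ideal.subset_span ⟨i, rfl⟩))

end GrothLib.InvSect4
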